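import Mathlib
import Cfsg.Prelude.Def_KGroupFacts

/-!
helper10: exact piece statements for S2080 (`Nat.card (Cfsg.Out Cfsg.Spor.Fi23) = 1`), generic in the
prime (after `Cfsg.Agent.H10.FO.Defs` for Fi22, proved by helper62 and helper20 for `p = 11, 13`).

* PARTIP: if every involution commuting with an element `z` of prime order `p` (`p ∥ |G|`) is
  conjugate to the involution `a`, and `a` commutes with `z`, then every automorphism maps `a` to a
  conjugate of `a`.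
* NORMP: for `x` of prime order `p` with `C(x) = ⟨x⟩`, `|G| = p m`, `m % p = s ≠ 0`: Sylow's
  congruence forces `|N(⟨x⟩) : C(x)| = s`, so `x` is conjugate to `x ^ k` whenever `k ^ s ≡ 1 (p)`.
* OUT1P: if moreover `p - 1 = 2 s` with `s` odd, every automorphism fixing `x` is inner and no
  automorphism inverts `x`, then `Out(G)` is trivial.
-/

set_option autoImplicit false

namespace Cfsg.Agent.H10.FO

universe u

/-- PARTIP. -/
def StPartIP : Prop := ∀ (G : Type u) [Group G] [Finite G] (p : ℕ) (a z : G) (m : ℕ),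
  p.Prime → Nat.card G = p * m → ¬ p ∣ m → z ^ p = 1 → z ≠ 1 →
  a * a = 1 → a ≠ 1 → a * z = z * a →
  (∀ e : G, e * e = 1 → e ≠ 1 → e * z = z * e → ∃ g : G, e = g * a * g⁻¹) →
  ∀ α : MulAut G, ∃ g : G, α a = g * a * g⁻¹

/-- NORMP. -/
def StNormP : Prop := ∀ (G : Type u) [Group G] [Finite G] (p : ℕ) (x : G) (m s : ℕ),
  p.Prime → Nat.card G = p * m → m % p = s → s ≠ 0 → x ^ p = 1 → x ≠ 1 →
  (∀ g : G, g * x = x * g → ∃ i : ℕ, g = x ^ i) →
  ∀ k : ℕ, k ^ s % p = 1 → ∃ ν : G, ν * x * ν⁻¹ = x ^ k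

/-- OUT1P. -/
def StOut1P : Prop := ∀ (G : Type u) [Group G] [Finite G] (p : ℕ) (x : G) (m s : ℕ),
  p.Prime → Nat.card G = p * m → ¬ p ∣ m → p = 2 * s + 1 → s % 2 = 1 → x ^ p = 1 → x ≠ 1 →
  (∀ k : ℕ, k ^ s % p = 1 → ∃ ν : G, ν * x * ν⁻¹ = x ^ k) →
  (∀ α : MulAut G, α x = x → ∃ g : G, α = MulAut.conj g) →
  (∀ α : MulAut G, α x ≠ x⁻¹) →
  Nat.card (Cfsg.Out G) = 1

end Cfsg.Agent.H10.FO
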