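import Cfsg.Agent.H10.FO.Fns

/-!
# Kernel checks for the automorphisms of the presented Fi22 (helper10; generated)
-/

set_option autoImplicit false
set_option maxHeartbeats 0

namespace Cfsg.Agent.H10.FO

open Cfsg.Spor Cfsg.Agent.H35

theorem c2_b4 : allR chk2 3510 9 (4 * 2 ^ 9) = true := by decide +kernel
theorem c2_b5 : allR chk2 3510 9 (5 * 2 ^ 9) = true := by decide +kernel
theorem c2_b6 : allR chk2 3510 9 (6 * 2 ^ 9) = true := by decide +kernel
theorem pchk2_ok : pchk2 = true := by decide +kernel
theorem pchk4_ok : pchk4 = true := by decide +kernel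
end Cfsg.Agent.H10.FO
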