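import Cfsg.Agent.H10.FO.Fns

/-!
# Kernel checks for the automorphisms of the presented Fi22 (helper10; generated)
-/

set_option autoImplicit false
set_option maxHeartbeats 0

namespace Cfsg.Agent.H10.FO

open Cfsg.Spor Cfsg.Agent.H35

theorem c1_ok : allR c1f 3510 12 0 = true := by decide +kernel
theorem crep_ok : allR crepf 3510 12 0 = true := by decide +kernel
theorem c0_ok : allR c0f 3510 12 0 = true := by decide +kernel
theorem c3_ok : allR c3f 3510 12 0 = true := by decide +kernel
theorem c5_ok : allR c5f 3510 12 0 = true := by decide +kernel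
theorem iz11_ok : allR (idf (wPow zw 11) []) 3510 12 0 = true := by decide +kernel
theorem iza_ok : allR (idf (zw ++ [Fi22.Gen.a]) (Fi22.Gen.a :: zw)) 3510 12 0 = true := by decide +kernel
theorem ix13_ok : allR (idf (wPow xw 13) []) 3510 12 0 = true := by decide +kernel
theorem igen_ok : ∀ s : Fi22.Gen, allR (idf ((gW s).reverse ++ (Fi22.Gen.a :: gW s)) [s]) 3510 12 0 = true := by
  intro s; cases s <;> decide +kernel
theorem ith1_ok : allR (idf (wPow [Fi22.Gen.d, .e, .f, .d, .c, .b, .d, .h, .i] 10) []) 3510 12 0 = true := by decide +kernel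
theorem ith2_ok : allR (idf (wPow [Fi22.Gen.g, .f, .e, .d, .c, .b, .h] 9) []) 3510 12 0 = true := by decide +kernel
theorem ith3_ok : allR (idf (wPow [Fi22.Gen.f, .e, .d, .c, .b, .a, .h] 9) []) 3510 12 0 = true := by decide +kernel
theorem cni_ok : allR cnif 14080 14 0 = true := by decide +kernel
theorem z0_ok : t1687_pd.walk zw 0 = 0 := by decide +kernel
theorem z1_ok : t1687_pd.walk zw 1 ≠ 1 := by decide +kernel
theorem x0_ok : t1687_pd.walk xw 0 ≠ 0 := by decide +kernel
theorem a1_ok : t1687_pd.walk [Fi22.Gen.a] 1 ≠ 1 := by decide +kernel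
theorem b0_ok : t1687_pd.walk [Fi22.Gen.b] 0 = 1 := by decide +kernel
theorem a0_ok : t1687_pd.walk [Fi22.Gen.a] 0 = 0 := by decide +kernel
theorem p1rep_ok : repF p1 = [Fi22.Gen.b] := by decide +kernel
end Cfsg.Agent.H10.FO
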