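import Cfsg.Agent.H10.FO.Fns

/-!
# Kernel checks for the automorphisms of the presented Fi22, part E (helper10)
-/

set_option autoImplicit false
set_option maxHeartbeats 0

namespace Cfsg.Agent.H10.FO

open Cfsg.Spor Cfsg.Agent.H35

/-- the generators of the point stabiliser commute with `a` -/
theorem isw_ok : t1687_sw.all (fun w => allR (idf (w ++ [Fi22.Gen.a]) (Fi22.Gen.a :: w)) 3510 12 0) = true := by
  decide +kernel

end Cfsg.Agent.H10.FO
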