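import Mathlib
import Cfsg.Prelude.Def_KGroupFacts
import Cfsg.Agent.H10.Fi22T.Upper

/-!
helper10: exact piece statements for S2079 (`Nat.card (Cfsg.Out Cfsg.Spor.Fi22) = 2`).

Plan.  `Fi22` is the presented group on the `Y₃₃₂` diagram; `a` is an end node (a 3-transposition),
`D = a^G` has 3510 elements and `G` acts on it as on the cosets of `C(a) = 2·U₆(2)` (table
`Cfsg.Agent.H35.t1687_pd`); `G` also acts on the 14080 cosets of `⟨b,…,i⟩ = Ω₇(3)` (table
`Cfsg.Agent.H35.t1685_pd`, `Cfsg.Agent.H10.Fi22T.top_hyp`).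

* PARTI: an element `z` of order 11 commuting with `a` whose centraliser has `a` as its only
  involution forces every automorphism to map `a` to a conjugate of `a` (Sylow).
* NORM13: for `x` of order 13 with `C(x) = ⟨x⟩` and `|G|/13 ≡ 6 (mod 13)`, Sylow's congruence forces
  `|N(⟨x⟩) : C(x)| = 6`, so `x` is conjugate to `x ^ k` for every sixth root of unity `k` mod 13.
* OUT2: if moreover every automorphism fixing `x` is inner and some automorphism is not inner, then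
  `Out(G)` has order 2.
* THETA / NONINNER: the diagram automorphism `a ↔ g, b ↔ f, c ↔ e` of `Fi22` exists and is not inner
  (it moves the point stabiliser `⟨b,…,i⟩` of the 14080-point action to a subgroup without fixed
  point).
-/

set_option autoImplicit false

namespace Cfsg.Agent.H10.FO

open Cfsg.Spor Cfsg.Agent.H35

universe u

/-- PARTI. -/
def StPartI : Prop := ∀ (G : Type u) [Group G] [Finite G] (a z : G) (m : ℕ),
  Nat.card G = 11 * m → ¬ 11 ∣ m → z ^ 11 = 1 → z ≠ 1 →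
  a * a = 1 → a ≠ 1 → a * z = z * a →
  (∀ e : G, e * e = 1 → e ≠ 1 → e * z = z * e → e = a) →
  ∀ α : MulAut G, ∃ g : G, α a = g * a * g⁻¹

/-- NORM13. -/
def StNorm13 : Prop := ∀ (G : Type u) [Group G] [Finite G] (x : G) (m : ℕ),
  Nat.card G = 13 * m → m % 13 = 6 → x ^ 13 = 1 → x ≠ 1 →
  (∀ g : G, g * x = x * g → ∃ i : ℕ, g = x ^ i) →
  ∀ k : ℕ, k ^ 6 % 13 = 1 → ∃ ν : G, ν * x * ν⁻¹ = x ^ k

/-- OUT2. -/
def StOut2 : Prop := ∀ (G : Type u) [Group G] [Finite G] (x : G) (m : ℕ),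
  Nat.card G = 13 * m → ¬ 13 ∣ m → x ^ 13 = 1 → x ≠ 1 →
  (∀ k : ℕ, k ^ 6 % 13 = 1 → ∃ ν : G, ν * x * ν⁻¹ = x ^ k) →
  (∀ α : MulAut G, α x = x → ∃ g : G, α = MulAut.conj g) →
  (∃ θ : MulAut G, ∀ g : G, θ ≠ MulAut.conj g) →
  Nat.card (Cfsg.Out G) = 2

/-- The diagram automorphism of `Y₃₃₂` on the generators. -/
def sig : Fi22.Gen → Fi22.Gen
  | .a => .g
  | .b => .f
  | .c => .e
  | .d => .d
  | .e => .c
  | .f => .b
  | .g => .a
  | .h => .h
  | .i => .i

/-- THETA: the diagram automorphism exists as soon as the images of the three extra relators hold. -/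
def StTheta : Prop :=
  uw fi22_gen [Fi22.Gen.d, .e, .f, .d, .c, .b, .d, .h, .i] ^ 10 = 1 →
  uw fi22_gen [Fi22.Gen.g, .f, .e, .d, .c, .b, .h] ^ 9 = 1 →
  uw fi22_gen [Fi22.Gen.f, .e, .d, .c, .b, .a, .h] ^ 9 = 1 →
  ∃ θ : MulAut Fi22, ∀ x, θ (fi22_gen x) = fi22_gen (sig x)

/-- NONINNER: the diagram automorphism is not inner, because no point of the 14080-point action is
fixed by all of `a, b, c, d, e, f, h, i`. -/
def StNonInner : Prop := ∀ θ : MulAut Fi22, (∀ x, θ (fi22_gen x) = fi22_gen (sig x)) →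
  (∀ p, p < 14080 → ∃ s ∈ ([.a, .b, .c, .d, .e, .f, .h, .i] : List Fi22.Gen),
    t1685_pd.walk [s] p ≠ p) →
  ∀ g : Fi22, θ ≠ MulAut.conj g

end Cfsg.Agent.H10.FO
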