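import Cfsg.Agent.H10.FO.Sound
import Cfsg.Agent.H62.FOPartI
import Cfsg.Agent.H62.FOTheta
import Cfsg.Agent.H62.FONonInner
import Cfsg.Agent.H20.FONorm13
import Cfsg.Agent.H20.FOOut2

/-!
# The outer automorphism group of the presented Fi22 has order 2 (helper10)

Assembly of the team pieces (helper62: `partI`, `theta`, `nonInner`; helper20: `norm13`, `out2`)
with the certificates on the 3510-point model.
-/

set_option autoImplicit false

namespace Cfsg.Agent.H10.FO

open Cfsg Cfsg.Spor Cfsg.Agent.H35 Cfsg.Agent.H10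

theorem out_fi22 : Nat.card (Cfsg.Out Fi22) = 2 := by
  obtain ⟨ρ, M⟩ := model_exists
  haveI : Finite Fi22 := fin_finite
  have hcard : Nat.card Fi22 = 64561751654400 := Cfsg.Agent.H10.Fi22T.fi22_main.1
  have hI : ∀ α : MulAut Fi22, ∃ g : Fi22, α gA = g * gA * g⁻¹ :=
    Cfsg.Agent.H62.FO.partI Fi22 gA gZ 5869250150400 (hcard.trans (by norm_num)) (by norm_num)
      (gZ_pow M) (gZ_ne M) (gA_sq M) (gA_ne M) (gA_gZ M) (hU M)
  have hnorm := Cfsg.Agent.H20.FO.norm13 Fi22 gX 4966288588800 (hcard.trans (by norm_num))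
    (by norm_num) (gX_pow M) (gX_ne M) (hC M hI)
  have hth : ∃ θ : MulAut Fi22, ∀ x, θ (fi22_gen x) = fi22_gen (sig x) := by
    apply Cfsg.Agent.H62.FO.theta
    · have h := ident M ith1_ok
      rw [uw_wPow M, uw_nil] at h; exact h
    · have h := ident M ith2_ok
      rw [uw_wPow M, uw_nil] at h; exact h
    · have h := ident M ith3_ok
      rw [uw_wPow M, uw_nil] at h; exact h
  obtain ⟨θ, hθ⟩ := hth
  have hni := Cfsg.Agent.H62.FO.nonInner θ hθ (by
    intro p hp
    have h := allR_all _ _ 14 (by decide) cni_ok p hp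
    unfold cnif at h
    rw [List.any_eq_true] at h
    obtain ⟨s, hs, h2⟩ := h
    refine ⟨s, hs, ?_⟩
    intro h3
    rw [h3] at h2
    simp at h2)
  exact Cfsg.Agent.H20.FO.out2 Fi22 gX 4966288588800 (hcard.trans (by norm_num)) (by norm_num)
    (gX_pow M) (gX_ne M) hnorm
    (fun α hα => by obtain ⟨j, hj⟩ := lx M hI α hα; exact ⟨_, hj⟩)
    ⟨θ, hni⟩

end Cfsg.Agent.H10.FO
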