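import Cfsg.Agent.H10.FO.Data

/-!
# Check functions for the automorphisms of the presented Fi22 (helper10)

All functions work on the 3510-point table `t1687_pd` of helper35 (the action on the cosets of the
centraliser of the generator `a`); a point `q` stands for the conjugate of `a` by a coset
representative.
-/

set_option autoImplicit false

namespace Cfsg.Agent.H10.FO

open Cfsg.Spor Cfsg.Agent.H35

/-- reversed coset representative word of a point (with fuel) -/
noncomputable def repR : ℕ → ℕ → List Fi22.Gen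
  | 0, _ => []
  | f + 1, q => if Nat.beq q 0 then [] else
      fi22_gof (Nat.shiftRight (fld 16 repTab q) 12) :: repR f (Nat.land (fld 16 repTab q) 4095)

/-- coset representative word of a point -/
noncomputable def repF (q : ℕ) : List Fi22.Gen := (repR 40 q).reverse

/-- the word of the conjugate of `a` belonging to a point -/
noncomputable def tauW (q : ℕ) : List Fi22.Gen := repR 40 q ++ (Fi22.Gen.a :: repF q)

/-- separating point -/
def y0 (u : ℕ) : ℕ := fld 12 y0Tab u

def par3 (u : ℕ) : ℕ := Nat.land (fld 32 tree3Tab u) 4095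
def let3 (u : ℕ) : ℕ := Nat.land (Nat.shiftRight (fld 32 tree3Tab u) 12) 15
def rk3 (u : ℕ) : ℕ := Nat.shiftRight (fld 32 tree3Tab u) 16
def par5 (u : ℕ) : ℕ := Nat.land (fld 32 tree5Tab u) 4095
def let5 (u : ℕ) : ℕ := Nat.land (Nat.shiftRight (fld 32 tree5Tab u) 12) 15
def rk5 (u : ℕ) : ℕ := Nat.shiftRight (fld 32 tree5Tab u) 16

/-- letters `z, a, t` -/
def sub2 (t : List Fi22.Gen) : ℕ → List Fi22.Gen
  | 0 => zw
  | 1 => [.a]
  | _ => t

/-- letters `x, t` -/
def sub4 (t : List Fi22.Gen) : ℕ → List Fi22.Gen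
  | 0 => xw
  | _ => t

/-- image of a point under a word in letters -/
noncomputable def evL (s : ℕ → List Fi22.Gen) : List ℕ → ℕ → ℕ
  | [], p => p
  | l :: W, p => evL s W (t1687_pd.walk (s l) p)

/-- the word of `(a z) ^ t` -/
def azPow : ℕ → List Fi22.Gen
  | 0 => []
  | t + 1 => (Fi22.Gen.a :: zw) ++ azPow t

/-- the word of `w ^ t` -/
def wPow (w : List Fi22.Gen) : ℕ → List Fi22.Gen
  | 0 => []
  | t + 1 => w ++ wPow w t

/-- the second point -/
def p1 : ℕ := 1

noncomputable def eq2 (t : List Fi22.Gen) (q : ℕ) (pr : Bool × List ℕ × Bool × List ℕ × Bool) : Bool :=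
  Nat.beq (evL (sub2 t) pr.2.1 (cond pr.1 q 0)) (evL (sub2 t) pr.2.2.2.1 (cond pr.2.2.1 q 0))

noncomputable def chk2 (q : ℕ) : Bool :=
  cond (Nat.ble 128 (fld 8 ct2Tab q))
    (Nat.beq q (t1687_pd.walk (azPow (fld 8 ct2Tab q - 128)) p1))
    (eq2 (tauW q) q (pairs2.getD (fld 8 ct2Tab q) (false, [], false, [], true)) !=
      (pairs2.getD (fld 8 ct2Tab q) (false, [], false, [], true)).2.2.2.2)

noncomputable def pchk2 : Bool := pairs2.all (fun pr => eq2 (tauW p1) p1 pr == pr.2.2.2.2)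

noncomputable def eq4 (t : List Fi22.Gen) (q : ℕ) (pr : List ℕ × List ℕ × Bool) : Bool :=
  Nat.beq (evL (sub4 t) pr.1 q) (evL (sub4 t) pr.2.1 q)

noncomputable def chk4 (q : ℕ) : Bool :=
  cond (Nat.ble 128 (fld 8 ct4Tab q))
    (Nat.beq q (t1687_pd.walk (wPow xw (fld 8 ct4Tab q - 128)) 0))
    (eq4 (tauW q) q (pairs4.getD (fld 8 ct4Tab q) ([], [], true)) !=
      (pairs4.getD (fld 8 ct4Tab q) ([], [], true)).2.2)

noncomputable def pchk4 : Bool := pairs4.all (fun pr => eq4 [Fi22.Gen.a] 0 pr == pr.2.2)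

noncomputable def c1f (p : ℕ) : Bool := Nat.beq p 0 || !(Nat.beq (t1687_pd.walk zw p) p)

noncomputable def crepf (q : ℕ) : Bool := Nat.beq (t1687_pd.walk (repF q) 0) q

noncomputable def c0f (u : ℕ) : Bool :=
  Nat.beq u 0 || (Nat.ble (Nat.succ (y0 u)) 3510 &&
    !(Nat.beq (t1687_pd.walk (tauW u) (y0 u)) (t1687_pd.walk [Fi22.Gen.a] (y0 u))))

noncomputable def c3f (u : ℕ) : Bool :=
  Nat.beq u 0 || (Nat.ble (Nat.succ (par3 u)) 3510 &&
    (Nat.beq (t1687_pd.walk (sub2 (tauW p1) (let3 u)) (par3 u)) u &&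
      Nat.ble (Nat.succ (rk3 (par3 u))) (rk3 u)))

noncomputable def c5f (u : ℕ) : Bool :=
  Nat.beq u 0 || (Nat.ble (Nat.succ (par5 u)) 3510 &&
    (Nat.beq (t1687_pd.walk (sub4 [Fi22.Gen.a] (let5 u)) (par5 u)) u &&
      Nat.ble (Nat.succ (rk5 (par5 u))) (rk5 u)))

/-- two words act in the same way on a point -/
noncomputable def idf (w w' : List Fi22.Gen) (p : ℕ) : Bool :=
  Nat.beq (t1687_pd.walk w p) (t1687_pd.walk w' p)

/-- one of `a, b, c, d, e, f, h, i` moves the point of the 14080-point table -/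
noncomputable def cnif (p : ℕ) : Bool :=
  ([.a, .b, .c, .d, .e, .f, .h, .i] : List Fi22.Gen).any (fun s => !(Nat.beq (t1685_pd.walk [s] p) p))

end Cfsg.Agent.H10.FO
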