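import Cfsg.Agent.H10.FO.ChkD
import Cfsg.Agent.H10.FO.ChkE

/-!
# The 3510-point model of the presented Fi22 (helper10)

`Mod ρ`: `ρ` is a faithful action on the 3510 points described by helper35's table, and the
stabiliser of the point `0` centralises the generator `a`.  Basic consequences: identities of words,
the conjugate of `a` belonging to a point, and `Stab(0) = C(a)`.
-/

set_option autoImplicit false

namespace Cfsg.Agent.H10.FO

open Cfsg Cfsg.Spor Cfsg.Agent.H35 Cfsg.Agent.H10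

/-- the generator `a` -/
noncomputable def gA : Fi22 := fi22_gen Fi22.Gen.a
/-- the element of order 11 -/
noncomputable def gZ : Fi22 := uw fi22_gen zw
/-- the element of order 13 -/
noncomputable def gX : Fi22 := uw fi22_gen xw

theorem uw_a : uw fi22_gen [Fi22.Gen.a] = gA := uw_singleton _ _
theorem uw_zw : uw fi22_gen zw = gZ := rfl
theorem uw_xw : uw fi22_gen xw = gX := rfl

/-- the model -/
structure Mod (ρ : Fi22 →* Equiv.Perm (Fin 3510)) : Prop where
  hw : ∀ (w : List Fi22.Gen) (p : Fin 3510), t1687_pd.walk w p.val = ((ρ (uw fi22_gen w))⁻¹ p).val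
  inj : Function.Injective ρ
  stab : ∀ g : Fi22, ρ g 0 = 0 → g * gA = gA * g

theorem uw_single (s : Fi22.Gen) : uw fi22_gen [s] = fi22_gen s := by
  rw [uw_cons, uw_nil, mul_one]

theorem fin_finite : Finite Fi22 := Cfsg.Agent.H10.Fi22T.top_bound.1

theorem model_exists : ∃ ρ : Fi22 →* Equiv.Perm (Fin 3510), Mod ρ := by
  obtain ⟨ρ, hw, hst, htr⟩ := tc_core Cfsg.Agent.H10.U6T.u6_hyp (by decide : 0 < t1687_pd.N)
  have hw' : ∀ (w : List Fi22.Gen) (p : Fin 3510),
      t1687_pd.walk w p.val = ((ρ (uw fi22_gen w))⁻¹ p).val := fun w p => hw w p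
  have hsimple : IsSimpleGroup Fi22 := Cfsg.Agent.H10.Fi22T.fi22_main.2
  have hinj : Function.Injective ρ := by
    rw [← MonoidHom.ker_eq_bot_iff]
    rcases (MonoidHom.normal_ker ρ).eq_bot_or_eq_top with h | h
    · exact h
    · exfalso
      have h1 : gA ∈ ρ.ker := by rw [h]; exact Subgroup.mem_top _
      rw [MonoidHom.mem_ker] at h1
      have h2 := hw' [Fi22.Gen.a] ⟨1, by decide⟩
      rw [uw_a, h1, inv_one] at h2
      exact a1_ok h2
  refine ⟨ρ, hw', hinj, ?_⟩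
  intro g hg
  have hmem : g ∈ Cfsg.Agent.H10.U6T.Ks := by
    rw [hst]; exact hg
  have key : ∀ w ∈ t1687_sw, uw fi22_gen w * gA = gA * uw fi22_gen w := by
    intro w hwm
    have h1 := (List.all_eq_true.mp isw_ok) w hwm
    have h2 := allR_all _ _ 12 (by decide) h1
    have h3 : uw fi22_gen (w ++ [Fi22.Gen.a]) = uw fi22_gen (Fi22.Gen.a :: w) := by
      apply hinj
      have : (ρ (uw fi22_gen (w ++ [Fi22.Gen.a])))⁻¹ = (ρ (uw fi22_gen (Fi22.Gen.a :: w)))⁻¹ := by
        apply Equiv.ext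
        intro p
        apply Fin.ext
        exact (hw _ p).symm.trans ((Nat.eq_of_beq_eq_true (h2 p.val p.isLt)).trans (hw _ p))
      exact inv_injective this
    rw [uw_append, uw_a, uw_cons] at h3
    exact h3
  refine Subgroup.closure_induction (p := fun g _ => g * gA = gA * g) ?_ ?_ ?_ ?_ hmem
  · rintro x ⟨w, hwm, rfl⟩
    exact key w hwm
  · rw [one_mul, mul_one]
  · intro x y _ _ hx hy
    rw [mul_assoc, hy, ← mul_assoc, hx, mul_assoc]
  · intro x _ hx
    have : x⁻¹ * (x * gA) * x⁻¹ = x⁻¹ * (gA * x) * x⁻¹ := by rw [hx]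
    simpa [mul_assoc] using this.symm

section
variable {ρ : Fi22 →* Equiv.Perm (Fin 3510)} (M : Mod ρ)
include M

theorem act_mul (g h : Fi22) (p : Fin 3510) : (ρ (g * h))⁻¹ p = (ρ h)⁻¹ ((ρ g)⁻¹ p) := by
  rw [map_mul, mul_inv_rev, Equiv.Perm.mul_apply]

theorem act_one (p : Fin 3510) : (ρ 1)⁻¹ p = p := by
  rw [map_one, inv_one, Equiv.Perm.one_apply]

theorem act_inv_eq {g : Fi22} {p q : Fin 3510} (h : (ρ g)⁻¹ p = q) : (ρ g⁻¹)⁻¹ q = p := by
  rw [← h, ← act_mul M, mul_inv_cancel, act_one M]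

theorem act_eq_zero_iff (g : Fi22) : (ρ g)⁻¹ 0 = 0 ↔ ρ g 0 = 0 := by
  rw [Equiv.Perm.inv_eq_iff_eq, eq_comm]

/-- two words acting in the same way are equal in the group -/
theorem ident {w w' : List Fi22.Gen} (h : allR (idf w w') 3510 12 0 = true) :
    uw fi22_gen w = uw fi22_gen w' := by
  have h2 := allR_all _ _ 12 (by decide) h
  apply M.inj
  have : (ρ (uw fi22_gen w))⁻¹ = (ρ (uw fi22_gen w'))⁻¹ := by
    apply Equiv.ext
    intro p
    apply Fin.ext
    exact (M.hw _ p).symm.trans ((Nat.eq_of_beq_eq_true (h2 p.val p.isLt)).trans (M.hw _ p))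
  exact inv_injective this

theorem uw_wPow (w : List Fi22.Gen) (t : ℕ) : uw fi22_gen (wPow w t) = uw fi22_gen w ^ t := by
  induction t with
  | zero => rw [wPow, uw_nil, pow_zero]
  | succ t ih => rw [wPow, uw_append, ih, pow_succ']

theorem gA_sq : gA * gA = 1 := fi22_inv _

theorem gA_ne : gA ≠ 1 := by
  intro h1
  have h2 := M.hw [Fi22.Gen.a] ⟨1, by decide⟩
  rw [uw_a, h1, act_one M] at h2
  exact a1_ok h2

theorem gZ_pow : gZ ^ 11 = 1 := by
  have h := ident M iz11_ok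
  rw [uw_wPow M, uw_nil, uw_zw] at h
  exact h

theorem gZ_ne : gZ ≠ 1 := by
  intro h1
  have h2 := M.hw zw ⟨1, by decide⟩
  rw [uw_zw, h1, act_one M] at h2
  exact z1_ok h2

theorem gA_gZ : gA * gZ = gZ * gA := by
  have h := ident M iza_ok
  rw [uw_append, uw_a, uw_cons, uw_zw] at h
  exact h.symm

theorem gX_pow : gX ^ 13 = 1 := by
  have h := ident M ix13_ok
  rw [uw_wPow M, uw_nil, uw_xw] at h
  exact h

theorem gX_ne : gX ≠ 1 := by
  intro h1
  have h2 := M.hw xw ⟨0, by decide⟩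
  rw [uw_xw, h1, act_one M] at h2
  exact x0_ok h2

/-- the generators are conjugates of `a` -/
theorem gen_conj (s : Fi22.Gen) :
    fi22_gen s = (uw fi22_gen (gW s))⁻¹ * gA * uw fi22_gen (gW s) := by
  have h := ident M (igen_ok s)
  rw [uw_append, uw_cons, uw_reverse fi22_gen fi22_inv, uw_singleton, ← mul_assoc] at h
  exact h.symm

/-- the coset representative of a point -/
noncomputable def rp (q : Fin 3510) : Fi22 := uw fi22_gen (repF q.val)

theorem act_rp (q : Fin 3510) : (ρ (rp q))⁻¹ 0 = q := by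
  apply Fin.ext
  have h := M.hw (repF q.val) 0
  have h2 := allR_all _ _ 12 (by decide) crep_ok q.val q.isLt
  exact h.symm.trans (Nat.eq_of_beq_eq_true h2)

theorem uw_tauW (q : Fin 3510) : uw fi22_gen (tauW q.val) = (rp q)⁻¹ * gA * rp q := by
  have h1 : uw fi22_gen (repR 40 q.val) = (uw fi22_gen (repF q.val))⁻¹ := by
    rw [← uw_reverse fi22_gen fi22_inv, repF, List.reverse_reverse]
  unfold tauW rp
  rw [uw_append, uw_cons, ← mul_assoc, h1]
  rfl

/-- the conjugate of `a` depends only on the point -/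
theorem wd {g h : Fi22} (hgh : (ρ g)⁻¹ 0 = (ρ h)⁻¹ 0) : g⁻¹ * gA * g = h⁻¹ * gA * h := by
  have h0 : (ρ (g * h⁻¹))⁻¹ 0 = 0 := by
    rw [act_mul M, hgh, ← act_mul M, mul_inv_cancel, act_one M]
  have hk := M.stab _ ((act_eq_zero_iff M _).mp h0)
  calc g⁻¹ * gA * g = g⁻¹ * (gA * (g * h⁻¹)) * h := by group
    _ = g⁻¹ * (g * h⁻¹ * gA) * h := by rw [hk]
    _ = h⁻¹ * gA * h := by group

theorem tau_eq {g : Fi22} {q : Fin 3510} (hg : (ρ g)⁻¹ 0 = q) :
    uw fi22_gen (tauW q.val) = g⁻¹ * gA * g := by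
  rw [uw_tauW M]
  exact wd M (by rw [act_rp M, hg])

/-- the stabiliser of `0` is the centraliser of `a` -/
theorem cs {g : Fi22} (hg : g * gA = gA * g) : (ρ g)⁻¹ 0 = 0 := by
  by_contra hne
  have h1 := tau_eq M (g := g) (q := (ρ g)⁻¹ 0) rfl
  have h2 : g⁻¹ * gA * g = gA := by rw [mul_assoc, ← hg, ← mul_assoc, inv_mul_cancel, one_mul]
  rw [h2] at h1
  have h3 := allR_all _ _ 12 (by decide) c0_ok ((ρ g)⁻¹ 0).val ((ρ g)⁻¹ 0).isLt
  unfold c0f at h3
  rw [Bool.or_eq_true] at h3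
  rcases h3 with h3 | h3
  · exact hne (Fin.ext (Nat.eq_of_beq_eq_true h3))
  · rw [Bool.and_eq_true] at h3
    obtain ⟨h4, h5⟩ := h3
    have hy : y0 ((ρ g)⁻¹ 0).val < 3510 := Nat.le_of_ble_eq_true h4
    have e1 := M.hw (tauW ((ρ g)⁻¹ 0).val) ⟨_, hy⟩
    have e2 := M.hw [Fi22.Gen.a] ⟨_, hy⟩
    rw [h1] at e1
    rw [uw_a] at e2
    have e3 : t1687_pd.walk (tauW ((ρ g)⁻¹ 0).val) (y0 ((ρ g)⁻¹ 0).val) =
        t1687_pd.walk [Fi22.Gen.a] (y0 ((ρ g)⁻¹ 0).val) := e1.trans e2.symm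
    rw [e3] at h5
    simp at h5

theorem cs_iff (g : Fi22) : (ρ g)⁻¹ 0 = 0 ↔ g * gA = gA * g :=
  ⟨fun h => M.stab _ ((act_eq_zero_iff M _).mp h), cs M⟩

end

end Cfsg.Agent.H10.FO
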