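import Cfsg.Agent.H10.FO.Model
import Cfsg.Agent.H10.FO.ChkA
import Cfsg.Agent.H10.FO.ChkB
import Cfsg.Agent.H10.FO.ChkC

/-!
# Soundness of the certificates (helper10)

* `hU`: the generator `a` is the only involution commuting with the element `z` of order 11;
* `lx`: an automorphism fixing the element `x` of order 13 is conjugation by a power of `x`
  (given that automorphisms map `a` to conjugates of `a`);
* `hC`: the centraliser of `x` is generated by `x`.
-/

set_option autoImplicit false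

namespace Cfsg.Agent.H10.FO

open Cfsg Cfsg.Spor Cfsg.Agent.H35 Cfsg.Agent.H10

/-- group element of a word in letters -/
noncomputable def ewL (s : ℕ → List Fi22.Gen) : List ℕ → Fi22
  | [] => 1
  | l :: W => uw fi22_gen (s l) * ewL s W

theorem conj_ewL (e : Fi22) (s1 s2 : ℕ → List Fi22.Gen)
    (h : ∀ l, e * uw fi22_gen (s2 l) = uw fi22_gen (s1 l) * e) (W : List ℕ) :
    e * ewL s2 W = ewL s1 W * e := by
  induction W with
  | nil => simp [ewL]
  | cons l W ih => rw [ewL, ewL, ← mul_assoc, h, mul_assoc, ih, mul_assoc]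

theorem hom_ewL (α : MulAut Fi22) (s1 s2 : ℕ → List Fi22.Gen)
    (h : ∀ l, α (uw fi22_gen (s1 l)) = uw fi22_gen (s2 l)) (W : List ℕ) :
    α (ewL s1 W) = ewL s2 W := by
  induction W with
  | nil => simp [ewL]
  | cons l W ih => rw [ewL, ewL, map_mul, h, ih]

theorem beq_congr {a b c d : ℕ} (h : a = b ↔ c = d) : Nat.beq a b = Nat.beq c d := by
  rw [Bool.eq_iff_iff]
  constructor
  · intro h1
    have := h.mp (Nat.eq_of_beq_eq_true h1)
    subst this
    exact Nat.beq_refl _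
  · intro h1
    have := h.mpr (Nat.eq_of_beq_eq_true h1)
    subst this
    exact Nat.beq_refl _

theorem chk2_all : ∀ q, q < 3510 → chk2 q = true := by
  refine allR_blocks chk2 3510 9 7 ?_ (by norm_num)
  intro k hk
  interval_cases k
  · exact c2_b0
  · exact c2_b1
  · exact c2_b2
  · exact c2_b3
  · exact c2_b4
  · exact c2_b5
  · exact c2_b6

theorem chk4_all : ∀ q, q < 3510 → chk4 q = true := by
  refine allR_blocks chk4 3510 9 7 ?_ (by norm_num)
  intro k hk
  interval_cases k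
  · exact c4_b0
  · exact c4_b1
  · exact c4_b2
  · exact c4_b3
  · exact c4_b4
  · exact c4_b5
  · exact c4_b6

theorem uw_azPow (t : ℕ) : uw fi22_gen (azPow t) = (gA * gZ) ^ t := by
  induction t with
  | zero => rw [azPow, uw_nil, pow_zero]
  | succ t ih =>
    rw [azPow, uw_append, uw_cons, ih, pow_succ']
    rfl

section
variable {ρ : Fi22 →* Equiv.Perm (Fin 3510)} (M : Mod ρ)
include M

theorem evL_eq (s : ℕ → List Fi22.Gen) (W : List ℕ) (y : Fin 3510) :
    evL s W y.val = ((ρ (ewL s W))⁻¹ y).val := by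
  induction W generalizing y with
  | nil => rw [evL, ewL, act_one M]
  | cons l W ih => rw [evL, ewL, act_mul M, M.hw (s l) y, ih]

theorem act_eq_iff (g h : Fi22) (p : Fin 3510) :
    (ρ g)⁻¹ p = (ρ h)⁻¹ p ↔ (ρ (g * h⁻¹))⁻¹ p = p := by
  constructor
  · intro hh
    rw [act_mul M, hh, ← act_mul M, mul_inv_cancel, act_one M]
  · intro hh
    rw [act_mul M] at hh
    have := act_inv_eq M hh
    rw [inv_inv] at this
    exact this.symm

/-- an element commuting with everything is trivial -/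
theorem central_one (k : Fi22) (hk : ∀ y, k * y = y * k) : k = 1 := by
  apply M.inj
  rw [map_one]
  have h0 : (ρ k)⁻¹ 0 = 0 := cs M (hk gA)
  have : (ρ k)⁻¹ = 1 := by
    apply Equiv.ext
    intro u
    rw [Equiv.Perm.one_apply]
    have h1 : (ρ k)⁻¹ ((ρ (rp u))⁻¹ 0) = (ρ (rp u))⁻¹ 0 := by
      rw [← act_mul M, ← hk, act_mul M, h0]
    rw [act_rp M] at h1
    exact h1
  exact inv_eq_one.mp this

/-- centraliser of the conjugate belonging to a point -/
theorem csq {r0 h : Fi22} {q : Fin 3510} (hr : (ρ r0)⁻¹ 0 = q) :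
    h * (r0⁻¹ * gA * r0) = (r0⁻¹ * gA * r0) * h ↔ (ρ h)⁻¹ q = q := by
  have h1 : h * (r0⁻¹ * gA * r0) = (r0⁻¹ * gA * r0) * h ↔
      (r0 * h * r0⁻¹) * gA = gA * (r0 * h * r0⁻¹) := by
    constructor
    · intro hh
      calc r0 * h * r0⁻¹ * gA = r0 * (h * (r0⁻¹ * gA * r0)) * r0⁻¹ := by group
        _ = r0 * ((r0⁻¹ * gA * r0) * h) * r0⁻¹ := by rw [hh]
        _ = gA * (r0 * h * r0⁻¹) := by group
    · intro hh
      calc h * (r0⁻¹ * gA * r0) = r0⁻¹ * (r0 * h * r0⁻¹ * gA) * r0 := by group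
        _ = r0⁻¹ * (gA * (r0 * h * r0⁻¹)) * r0 := by rw [hh]
        _ = r0⁻¹ * gA * r0 * h := by group
  rw [h1, ← cs_iff M, act_mul M, act_mul M, hr]
  constructor
  · intro hh
    have := act_inv_eq M hh
    rw [inv_inv, hr] at this
    exact this.symm
  · intro hh
    rw [hh]; exact act_inv_eq M hr

theorem eq2_transfer (e : Fi22) (q : Fin 3510) (he0 : (ρ e)⁻¹ 0 = 0)
    (heq : (ρ e)⁻¹ ⟨1, by decide⟩ = q)
    (h : ∀ l, e * uw fi22_gen (sub2 (tauW q.val) l) = uw fi22_gen (sub2 (tauW p1) l) * e)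
    (pr : Bool × List ℕ × Bool × List ℕ × Bool) :
    eq2 (tauW q.val) q.val pr = eq2 (tauW p1) p1 pr := by
  have hst : ∀ b : Bool, cond b q.val 0 = ((ρ e)⁻¹ (cond b ⟨1, by decide⟩ 0 : Fin 3510)).val ∧
      cond b p1 0 = (cond b ⟨1, by decide⟩ 0 : Fin 3510).val := by
    intro b
    cases b
    · exact ⟨by show (0 : ℕ) = ((ρ e)⁻¹ 0).val; rw [he0]; rfl, rfl⟩
    · exact ⟨by show q.val = ((ρ e)⁻¹ ⟨1, by decide⟩).val; rw [heq], rfl⟩
  have key : ∀ (W : List ℕ) (y : Fin 3510),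
      evL (sub2 (tauW q.val)) W ((ρ e)⁻¹ y).val =
        ((ρ e)⁻¹ ((ρ (ewL (sub2 (tauW p1)) W))⁻¹ y)).val := by
    intro W y
    rw [evL_eq M, ← act_mul M, conj_ewL e _ _ h W, act_mul M]
  unfold eq2
  rw [(hst pr.1).1, (hst pr.2.2.1).1, (hst pr.1).2, (hst pr.2.2.1).2, key, key, evL_eq M, evL_eq M]
  apply beq_congr
  rw [Fin.val_inj, Fin.val_inj, Equiv.apply_eq_iff_eq]

/-- `a` is the only involution commuting with `z` -/
theorem hU (e : Fi22) (he2 : e * e = 1) (he1 : e ≠ 1) (hez : e * gZ = gZ * e) : e = gA := by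
  have hZ0 : (ρ gZ)⁻¹ 0 = 0 := Fin.ext ((M.hw zw 0).symm.trans z0_ok)
  have he0 : (ρ e)⁻¹ 0 = 0 := by
    have h1 : (ρ gZ)⁻¹ ((ρ e)⁻¹ 0) = (ρ e)⁻¹ 0 := by
      rw [← act_mul M, hez, act_mul M, hZ0]
    have h2 := allR_all _ _ 12 (by decide) c1_ok ((ρ e)⁻¹ 0).val ((ρ e)⁻¹ 0).isLt
    unfold c1f at h2
    rw [Bool.or_eq_true] at h2
    rcases h2 with h2 | h2
    · exact Fin.ext (Nat.eq_of_beq_eq_true h2)
    · exfalso
      have h3 := M.hw zw ((ρ e)⁻¹ 0)
      rw [uw_zw, h1] at h3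
      rw [h3] at h2
      simp at h2
  have hea : e * gA = gA * e := (cs_iff M e).mp he0
  obtain ⟨q, hq⟩ : ∃ q : Fin 3510, (ρ e)⁻¹ ⟨1, by decide⟩ = q := ⟨_, rfl⟩
  have hrp1 : (ρ (rp ⟨1, by decide⟩))⁻¹ 0 = ⟨1, by decide⟩ := act_rp M _
  have hτ : e * uw fi22_gen (tauW q.val) = uw fi22_gen (tauW p1) * e := by
    have h1 : uw fi22_gen (tauW p1) = (rp ⟨1, by decide⟩)⁻¹ * gA * rp ⟨1, by decide⟩ :=
      uw_tauW M ⟨1, by decide⟩
    have h2 : uw fi22_gen (tauW q.val) =
        (rp ⟨1, by decide⟩ * e)⁻¹ * gA * (rp ⟨1, by decide⟩ * e) :=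
      tau_eq M (by rw [act_mul M, hrp1, hq])
    rw [h1, h2]; group
  have hl : ∀ l, e * uw fi22_gen (sub2 (tauW q.val) l) = uw fi22_gen (sub2 (tauW p1) l) * e := by
    intro l
    match l with
    | 0 => exact hez
    | 1 =>
      show e * uw fi22_gen [Fi22.Gen.a] = uw fi22_gen [Fi22.Gen.a] * e
      rw [uw_a]; exact hea
    | (l + 2) => exact hτ
  have hc := chk2_all q.val q.isLt
  unfold chk2 at hc
  cases hb : Nat.ble 128 (fld 8 ct2Tab q.val) with
  | false =>
    exfalso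
    rw [hb] at hc
    simp only [cond_false] at hc
    rw [eq2_transfer M e q he0 hq hl] at hc
    rcases getD_mem_or pairs2 (fld 8 ct2Tab q.val) (false, [], false, [], true) with hm | hm
    · have h3 := (List.all_eq_true.mp pchk2_ok) _ hm
      exact (bne_iff_ne.mp hc) (beq_iff_eq.mp h3)
    · rw [hm] at hc
      simp [eq2, evL] at hc
  | true =>
    rw [hb] at hc
    simp only [cond_true] at hc
    obtain ⟨t, ht⟩ : ∃ t : ℕ, fld 8 ct2Tab q.val - 128 = t := ⟨_, rfl⟩
    rw [ht] at hc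
    have hq0 : (ρ ((gA * gZ) ^ t))⁻¹ ⟨1, by decide⟩ = q := by
      apply Fin.ext
      have := M.hw (azPow t) ⟨1, by decide⟩
      rw [uw_azPow] at this
      rw [← this]
      exact (Nat.eq_of_beq_eq_true hc).symm
    have cAZ : Commute gA gZ := gA_gZ M
    have c1 : Commute ((gA * gZ) ^ t) gZ := ((cAZ.mul_left (Commute.refl gZ))).pow_left t
    have c2 : Commute ((gA * gZ) ^ t) gA := (((Commute.refl gA).mul_left cAZ.symm)).pow_left t
    -- e' = e * g0⁻¹ fixes everything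
    have hZ' : (e * ((gA * gZ) ^ t)⁻¹) * gZ = gZ * (e * ((gA * gZ) ^ t)⁻¹) := by
      rw [mul_assoc, (c1.inv_left).eq, ← mul_assoc, hez, mul_assoc]
    have hA' : (e * ((gA * gZ) ^ t)⁻¹) * gA = gA * (e * ((gA * gZ) ^ t)⁻¹) := by
      rw [mul_assoc, (c2.inv_left).eq, ← mul_assoc, hea, mul_assoc]
    have hp' : (ρ (e * ((gA * gZ) ^ t)⁻¹))⁻¹ ⟨1, by decide⟩ = ⟨1, by decide⟩ := by
      rw [act_mul M, hq]; exact act_inv_eq M hq0
    have hT' : (e * ((gA * gZ) ^ t)⁻¹) * uw fi22_gen (tauW p1) =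
        uw fi22_gen (tauW p1) * (e * ((gA * gZ) ^ t)⁻¹) := by
      have h1 : uw fi22_gen (tauW p1) = (rp ⟨1, by decide⟩)⁻¹ * gA * rp ⟨1, by decide⟩ :=
        uw_tauW M ⟨1, by decide⟩
      have h2 : uw fi22_gen (tauW p1) =
          (rp ⟨1, by decide⟩ * (e * ((gA * gZ) ^ t)⁻¹))⁻¹ * gA *
            (rp ⟨1, by decide⟩ * (e * ((gA * gZ) ^ t)⁻¹)) :=
        tau_eq M (q := ⟨1, by decide⟩) (by rw [act_mul M, hrp1, hp'])
      rw [h1] at h2 ⊢
      generalize e * ((gA * gZ) ^ t)⁻¹ = e' at h2 ⊢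
      generalize rp ⟨1, by decide⟩ = r at h2 ⊢
      calc e' * (r⁻¹ * gA * r) = e' * ((r * e')⁻¹ * gA * (r * e')) := by rw [← h2]
        _ = r⁻¹ * gA * r * e' := by group
    have hfix : ∀ n : ℕ, ∀ u : Fin 3510, rk3 u.val = n →
        (ρ (e * ((gA * gZ) ^ t)⁻¹))⁻¹ u = u := by
      intro n
      induction n using Nat.strong_induction_on with
      | _ n ih =>
        intro u hn
        have hc3 := allR_all _ _ 12 (by decide) c3_ok u.val u.isLt
        unfold c3f at hc3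
        rw [Bool.or_eq_true] at hc3
        rcases hc3 with hc3 | hc3
        · have hu : u = 0 := Fin.ext (Nat.eq_of_beq_eq_true hc3)
          rw [hu]
          exact cs M hA'
        · simp only [Bool.and_eq_true] at hc3
          obtain ⟨h1, h2, h3⟩ := hc3
          have hv : par3 u.val < 3510 := Nat.le_of_ble_eq_true h1
          have hrk : rk3 (par3 u.val) < rk3 u.val := Nat.le_of_ble_eq_true h3
          have hℓu : (ρ (uw fi22_gen (sub2 (tauW p1) (let3 u.val))))⁻¹ ⟨par3 u.val, hv⟩ = u := by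
            apply Fin.ext
            rw [← M.hw]
            exact Nat.eq_of_beq_eq_true h2
          have hcomm : (e * ((gA * gZ) ^ t)⁻¹) * uw fi22_gen (sub2 (tauW p1) (let3 u.val)) =
              uw fi22_gen (sub2 (tauW p1) (let3 u.val)) * (e * ((gA * gZ) ^ t)⁻¹) := by
            generalize let3 u.val = l
            match l with
            | 0 => exact hZ'
            | 1 =>
              show _ * uw fi22_gen [Fi22.Gen.a] = uw fi22_gen [Fi22.Gen.a] * _
              rw [uw_a]; exact hA'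
            | (l + 2) => exact hT'
          have hiv := ih _ (hn ▸ hrk) ⟨par3 u.val, hv⟩ rfl
          rw [← hℓu, ← act_mul M, ← hcomm, act_mul M, hiv]
    have he' : e * ((gA * gZ) ^ t)⁻¹ = 1 := by
      apply M.inj
      rw [map_one]
      have : (ρ (e * ((gA * gZ) ^ t)⁻¹))⁻¹ = 1 := by
        apply Equiv.ext
        intro u
        rw [Equiv.Perm.one_apply]
        exact hfix _ u rfl
      exact inv_eq_one.mp this
    have hee : e = (gA * gZ) ^ t := by
      rw [← mul_inv_eq_one]; exact he'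
    have hpow : (gA * gZ) ^ t = gA ^ t * gZ ^ t := cAZ.mul_pow t
    have hA2t : gA ^ (2 * t) = 1 := by
      rw [pow_mul, pow_two, gA_sq M, one_pow]
    have hZ2t : gZ ^ (2 * t) = 1 := by
      have h1 : e ^ 2 = 1 := by rw [pow_two]; exact he2
      rw [hee, ← pow_mul, mul_comm t 2, cAZ.mul_pow, hA2t, one_mul] at h1
      exact h1
    haveI : Fact (Nat.Prime 11) := ⟨by norm_num⟩
    have hord : orderOf gZ = 11 := orderOf_eq_prime (gZ_pow M) (gZ_ne M)
    have hdvd : 11 ∣ t := by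
      have h1 : 11 ∣ 2 * t := by rw [← hord]; exact orderOf_dvd_of_pow_eq_one hZ2t
      rcases (Nat.Prime.dvd_mul (by norm_num)).mp h1 with h2 | h2
      · norm_num at h2
      · exact h2
    have hZt : gZ ^ t = 1 := by
      rw [← hord] at hdvd
      exact orderOf_dvd_iff_pow_eq_one.mp hdvd
    rw [hpow, hZt, mul_one] at hee
    rcases Nat.even_or_odd t with ⟨k, hk⟩ | ⟨k, hk⟩
    · exfalso
      apply he1
      rw [hee, hk, ← two_mul, pow_mul, pow_two, gA_sq M, one_pow]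
    · rw [hee, hk, pow_succ, pow_mul, pow_two, gA_sq M, one_pow, one_mul]

/-- an automorphism fixing `x` and `a` is trivial -/
theorem fix_of_gens (β : MulAut Fi22) (hx : β gX = gX) (ha : β gA = gA) : β = 1 := by
  have key : ∀ n : ℕ, ∀ u : Fin 3510, rk5 u.val = n → ∀ g : Fi22, (ρ g)⁻¹ 0 = u →
      β (g⁻¹ * gA * g) = g⁻¹ * gA * g := by
    intro n
    induction n using Nat.strong_induction_on with
    | _ n ih =>
      intro u hn g hg
      have hc := allR_all _ _ 12 (by decide) c5_ok u.val u.isLt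
      unfold c5f at hc
      rw [Bool.or_eq_true] at hc
      rcases hc with hc | hc
      · have hu : u = 0 := Fin.ext (Nat.eq_of_beq_eq_true hc)
        rw [hu] at hg
        have hcomm := (cs_iff M g).mp hg
        have : g⁻¹ * gA * g = gA := by
          rw [mul_assoc, ← hcomm, ← mul_assoc, inv_mul_cancel, one_mul]
        rw [this, ha]
      · simp only [Bool.and_eq_true] at hc
        obtain ⟨h1, h2, h3⟩ := hc
        have hv : par5 u.val < 3510 := Nat.le_of_ble_eq_true h1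
        have hrk : rk5 (par5 u.val) < rk5 u.val := Nat.le_of_ble_eq_true h3
        have hℓu : (ρ (uw fi22_gen (sub4 [Fi22.Gen.a] (let5 u.val))))⁻¹ ⟨par5 u.val, hv⟩ = u := by
          apply Fin.ext
          rw [← M.hw]
          exact Nat.eq_of_beq_eq_true h2
        have hβℓ : β (uw fi22_gen (sub4 [Fi22.Gen.a] (let5 u.val))) =
            uw fi22_gen (sub4 [Fi22.Gen.a] (let5 u.val)) := by
          generalize let5 u.val = l
          match l with
          | 0 => exact hx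
          | (l + 1) =>
            show β (uw fi22_gen [Fi22.Gen.a]) = uw fi22_gen [Fi22.Gen.a]
            rw [uw_a]; exact ha
        generalize uw fi22_gen (sub4 [Fi22.Gen.a] (let5 u.val)) = ℓ at hℓu hβℓ
        have hg' : (ρ (g * ℓ⁻¹))⁻¹ 0 = ⟨par5 u.val, hv⟩ := by
          rw [act_mul M, hg]; exact act_inv_eq M hℓu
        have hiv := ih _ (hn ▸ hrk) ⟨par5 u.val, hv⟩ rfl (g * ℓ⁻¹) hg'
        have e1 : (g * ℓ⁻¹)⁻¹ * gA * (g * ℓ⁻¹) = ℓ * (g⁻¹ * gA * g) * ℓ⁻¹ := by group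
        rw [e1, map_mul, map_mul, map_inv, hβℓ] at hiv
        exact mul_left_cancel (mul_right_cancel hiv)
  have hgen : ∀ s, β (fi22_gen s) = fi22_gen s := by
    intro s
    rw [gen_conj M s]
    exact key _ _ rfl _ rfl
  have : β.toMonoidHom = MonoidHom.id Fi22 := by
    apply MonoidHom.eq_of_eqOn_dense fi22_closure
    rintro _ ⟨s, rfl⟩
    exact hgen s
  ext y
  exact DFunLike.congr_fun this y

theorem eq4_transfer (α : MulAut Fi22) (g : Fi22) (q : Fin 3510) (hq : (ρ g⁻¹)⁻¹ 0 = q)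
    (hg : α gA = g * gA * g⁻¹) (hx : α gX = gX) (pr : List ℕ × List ℕ × Bool) :
    eq4 (tauW q.val) q.val pr = eq4 [Fi22.Gen.a] 0 pr := by
  have hτ : uw fi22_gen (tauW q.val) = α gA := by
    rw [tau_eq M hq, inv_inv, hg]
  have hl : ∀ l, α (uw fi22_gen (sub4 [Fi22.Gen.a] l)) = uw fi22_gen (sub4 (tauW q.val) l) := by
    intro l
    match l with
    | 0 => exact hx
    | (l + 1) =>
      show α (uw fi22_gen [Fi22.Gen.a]) = uw fi22_gen (tauW q.val)
      rw [uw_a]; exact hτ.symm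
  unfold eq4
  have e0 : ∀ W, evL (sub4 [Fi22.Gen.a]) W 0 = ((ρ (ewL (sub4 [Fi22.Gen.a]) W))⁻¹ 0).val :=
    fun W => evL_eq M _ W 0
  rw [evL_eq M, evL_eq M, e0, e0, ← hom_ewL α _ _ hl, ← hom_ewL α _ _ hl]
  apply beq_congr
  rw [Fin.val_inj, Fin.val_inj, act_eq_iff M, act_eq_iff M (ewL _ pr.1), cs_iff M]
  have hcs := csq M (r0 := g⁻¹) (h := α (ewL (sub4 [Fi22.Gen.a]) pr.1) * (α (ewL (sub4 [Fi22.Gen.a]) pr.2.1))⁻¹) hq
  rw [inv_inv] at hcs
  rw [← hcs, ← hg, ← map_inv, ← map_mul, ← map_mul, ← map_mul, EquivLike.apply_eq_iff_eq]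

/-- an automorphism fixing `x` is conjugation by a power of `x` -/
theorem lx (hI : ∀ α : MulAut Fi22, ∃ g : Fi22, α gA = g * gA * g⁻¹) (α : MulAut Fi22)
    (hx : α gX = gX) : ∃ j : ℕ, α = MulAut.conj (gX ^ j)⁻¹ := by
  obtain ⟨g, hg⟩ := hI α
  obtain ⟨q, hq⟩ : ∃ q : Fin 3510, (ρ g⁻¹)⁻¹ 0 = q := ⟨_, rfl⟩
  have hτ : uw fi22_gen (tauW q.val) = α gA := by
    rw [tau_eq M hq, inv_inv, hg]
  have hc := chk4_all q.val q.isLt
  unfold chk4 at hc
  cases hb : Nat.ble 128 (fld 8 ct4Tab q.val) with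
  | true =>
    rw [hb] at hc
    simp only [cond_true] at hc
    obtain ⟨j, hj⟩ : ∃ j : ℕ, fld 8 ct4Tab q.val - 128 = j := ⟨_, rfl⟩
    rw [hj] at hc
    refine ⟨j, ?_⟩
    have hqj : (ρ (gX ^ j))⁻¹ 0 = q := by
      apply Fin.ext
      have := M.hw (wPow xw j) 0
      rw [uw_wPow M, uw_xw] at this
      rw [← this]
      exact (Nat.eq_of_beq_eq_true hc).symm
    have hαa : α gA = (gX ^ j)⁻¹ * gA * gX ^ j := by rw [← hτ]; exact tau_eq M hqj
    have hβ : MulAut.conj (gX ^ j) * α = 1 := by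
      apply fix_of_gens M
      · rw [MulAut.mul_apply, hx, MulAut.conj_apply, ← pow_succ, pow_succ', mul_assoc,
          mul_inv_cancel, mul_one]
      · rw [MulAut.mul_apply, hαa, MulAut.conj_apply]; group
    rw [map_inv]
    exact eq_inv_of_mul_eq_one_right hβ
  | false =>
    exfalso
    rw [hb] at hc
    simp only [cond_false] at hc
    rw [eq4_transfer M α g q hq hg hx] at hc
    rcases getD_mem_or pairs4 (fld 8 ct4Tab q.val) ([], [], true) with hm | hm
    · have h3 := (List.all_eq_true.mp pchk4_ok) _ hm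
      exact (bne_iff_ne.mp hc) (beq_iff_eq.mp h3)
    · rw [hm] at hc
      simp [eq4, evL] at hc

/-- the centraliser of `x` -/
theorem hC (hI : ∀ α : MulAut Fi22, ∃ g : Fi22, α gA = g * gA * g⁻¹) (g : Fi22)
    (hg : g * gX = gX * g) : ∃ i : ℕ, g = gX ^ i := by
  have h1 : MulAut.conj g gX = gX := by
    rw [MulAut.conj_apply, hg, mul_assoc, mul_inv_cancel, mul_one]
  obtain ⟨j, hj⟩ := lx M hI (MulAut.conj g) h1
  refine ⟨12 * j, ?_⟩
  have h2 : (gX ^ j)⁻¹ = gX ^ (12 * j) := by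
    rw [inv_eq_iff_eq_inv, eq_inv_iff_mul_eq_one, ← pow_add]
    rw [show j + 12 * j = 13 * j by ring, pow_mul, gX_pow M, one_pow]
  rw [← h2]
  have h3 : ((gX ^ j)⁻¹)⁻¹ * g = 1 := by
    apply central_one M
    intro y
    have h4 := DFunLike.congr_fun hj y
    rw [MulAut.conj_apply, MulAut.conj_apply] at h4
    generalize (gX ^ j)⁻¹ = c at h4 ⊢
    calc c⁻¹ * g * y = c⁻¹ * (g * y * g⁻¹) * g := by group
      _ = c⁻¹ * (c * y * c⁻¹) * g := by rw [h4]
      _ = y * (c⁻¹ * g) := by group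
  exact (inv_mul_eq_one.mp h3).symm

end

end Cfsg.Agent.H10.FO
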